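import Cfsg.Agent.Lib.SpOre.Gauss

/-!
Frames: for every `n` outside small exceptions there is a Levi element without fixed points on the
Siegel radicals (scalar for four or more elements, block companion matrices over two and three).
-/

set_option autoImplicit false
set_option linter.style.haveILetI false
set_option linter.unusedSectionVars false
set_option linter.unusedSimpArgs false

namespace CfsgLib.SpOre

open Matrix Polynomial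

variable {F : Type*} [Field F] {ι κ : Type*} [Fintype ι] [DecidableEq ι] [Fintype κ] [DecidableEq κ]

/-- A frame for a given polynomial. -/
def FrameF (f : F[X]) (ι : Type*) [Fintype ι] [DecidableEq ι] (ε : F) : Prop :=
  ∃ a c b b' : Matrix ι ι F,
    a * c = 1 ∧ b * b' = 1 ∧ b * a = ε • (a * b) ∧ aeval a f = 0 ∧ IsUnit (aeval c f)

theorem FrameF.frame {f : F[X]} {ε : F} (h : FrameF f ι ε) : Frame F ι ε := by
  obtain ⟨a, c, b, b', h⟩ := h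
  exact ⟨a, c, b, b', f, h⟩

theorem aeval_blocks (A : Matrix ι ι F) (B : Matrix κ κ F) (f : F[X]) :
    aeval (fromBlocks A 0 0 B) f = fromBlocks (aeval A f) 0 0 (aeval B f) := by
  induction f using Polynomial.induction_on' with
  | add p q hp hq => simp [hp, hq, fromBlocks_add]
  | monomial k r =>
    have hk : (fromBlocks A 0 0 B) ^ k = fromBlocks (A ^ k) 0 0 (B ^ k) := by
      induction k with
      | zero => simp
      | succ k ih => simp [pow_succ, ih, fromBlocks_multiply]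
    simp [aeval_monomial, Algebra.algebraMap_eq_smul_one, hk, fromBlocks_smul]

theorem FrameF.sum {f : F[X]} {ε : F} (h : FrameF f ι ε) (h' : FrameF f κ ε) :
    FrameF f (ι ⊕ κ) ε := by
  obtain ⟨a, c, b, b', hac, hbb, hba, hfa, hfc⟩ := h
  obtain ⟨a', c', d, d', hac', hdd, hda, hfa', hfc'⟩ := h'
  refine ⟨fromBlocks a 0 0 a', fromBlocks c 0 0 c', fromBlocks b 0 0 d, fromBlocks b' 0 0 d',
    by simp [fromBlocks_multiply, hac, hac'], by simp [fromBlocks_multiply, hbb, hdd],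
    by simp [fromBlocks_multiply, fromBlocks_smul, hba, hda], by simp [aeval_blocks, hfa, hfa'], ?_⟩
  rw [aeval_blocks]
  obtain ⟨u, hu⟩ := hfc.exists_right_inv
  obtain ⟨u', hu'⟩ := hfc'.exists_right_inv
  exact IsUnit.of_mul_eq_one (fromBlocks u 0 0 u') (by simp [fromBlocks_multiply, hu, hu'])

theorem FrameF.reindex {f : F[X]} {ε : F} (h : FrameF f ι ε) (e : ι ≃ κ) : FrameF f κ ε := by
  obtain ⟨a, c, b, b', hac, hbb, hba, hfa, hfc⟩ := h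
  let φ := Matrix.reindexAlgEquiv F F e
  refine ⟨φ a, φ c, φ b, φ b', by rw [← map_mul, hac, map_one], by rw [← map_mul, hbb, map_one],
    by rw [← map_mul, hba, map_smul, map_mul], ?_, ?_⟩
  · rw [show φ a = φ.toAlgHom a from rfl, aeval_algHom_apply, hfa, map_zero]
  · rw [show φ c = φ.toAlgHom c from rfl, aeval_algHom_apply]
    exact hfc.map φ.toAlgHom

theorem aeval_map_field {K : Type*} [Field K] (φ : K →+* F) (M : Matrix ι ι K) (f : K[X]) :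
    aeval (φ.mapMatrix M) (f.map φ) = φ.mapMatrix (aeval M f) := by
  induction f using Polynomial.induction_on' with
  | add p q hp hq => rw [Polynomial.map_add, _root_.map_add, _root_.map_add, hp, hq, _root_.map_add]
  | monomial k r =>
    rw [Polynomial.map_monomial, aeval_monomial, aeval_monomial, map_mul, map_pow]
    congr 1
    ext i j
    simp [Algebra.algebraMap_eq_smul_one, Matrix.one_apply, apply_ite φ]

theorem FrameF.map {K : Type*} [Field K] (φ : K →+* F) {f : K[X]} {ε : K} (h : FrameF f ι ε) :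
    FrameF (f.map φ) ι (φ ε) := by
  obtain ⟨a, c, b, b', hac, hbb, hba, hfa, hfc⟩ := h
  refine ⟨φ.mapMatrix a, φ.mapMatrix c, φ.mapMatrix b, φ.mapMatrix b',
    by rw [← map_mul, hac, map_one], by rw [← map_mul, hbb, map_one], ?_, ?_, ?_⟩
  · rw [← map_mul, hba]
    ext i j
    simp [Matrix.mul_apply, map_sum]
  · rw [aeval_map_field, hfa, map_zero]
  · rw [aeval_map_field]
    exact hfc.map φ.mapMatrix

theorem frame_of_four [Fintype F] (h4 : 4 ≤ Fintype.card F) (n : ℕ) : Frame F (Fin n) 1 := by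
  classical
  obtain ⟨t, ht⟩ : ∃ t : F, t ∉ ({0, 1, -1} : Finset F) := by
    by_contra! h
    have := Finset.card_le_card (fun x _ => h x : (Finset.univ : Finset F) ⊆ {0, 1, -1})
    have h3 : ({0, 1, -1} : Finset F).card ≤ 3 := Finset.card_le_three
    rw [Finset.card_univ] at this
    omega
  simp only [Finset.mem_insert, Finset.mem_singleton, not_or] at ht
  obtain ⟨h0, h1, h2⟩ := ht
  have hne : t⁻¹ - t ≠ 0 := by
    intro h
    have : (t - 1) * (t + 1) = 0 := by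
      field_simp at h
      linear_combination -h
    rcases mul_eq_zero.mp this with h | h
    · exact h1 (sub_eq_zero.mp h)
    · exact h2 (eq_neg_of_add_eq_zero_left h)
  refine ⟨t • 1, t⁻¹ • 1, 1, 1, X - C t, by simp [smul_smul, h0], one_mul 1, by simp, ?_, ?_⟩
  · simp [Algebra.algebraMap_eq_smul_one]
  · refine IsUnit.of_mul_eq_one ((t⁻¹ - t)⁻¹ • 1) ?_
    simp [Algebra.algebraMap_eq_smul_one, ← sub_smul, smul_smul, hne]

theorem frame_two_3 : FrameF (((X ^ 3 + X + 1) * (X ^ 4 + X + 1) * (X ^ 5 + X ^ 2 + 1) : (ZMod 2)[X])) (Fin 3) (1 : ZMod 2) := by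
  set a : Matrix (Fin 3) (Fin 3) (ZMod 2) := !![0, 0, 1; 1, 0, 1; 0, 1, 0] with ha
  set c : Matrix (Fin 3) (Fin 3) (ZMod 2) := !![1, 1, 0; 0, 0, 1; 1, 0, 0] with hc
  have pa2 : a ^ 2 = !![0, 1, 0; 0, 1, 1; 1, 0, 1] := by
    rw [pow_succ, pow_one, ha]; decide +kernel
  have pa3 : a ^ 3 = !![1, 0, 1; 1, 1, 1; 0, 1, 1] := by
    rw [pow_succ, pa2, ha]; decide +kernel
  have pc2 : c ^ 2 = !![1, 1, 1; 1, 0, 0; 1, 1, 0] := by
    rw [pow_succ, pow_one, hc]; decide +kernel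
  have pc3 : c ^ 3 = !![0, 1, 1; 1, 1, 0; 1, 1, 1] := by
    rw [pow_succ, pc2, hc]; decide +kernel
  have pc4 : c ^ 4 = !![1, 0, 1; 1, 1, 1; 0, 1, 1] := by
    rw [pow_succ, pc3, hc]; decide +kernel
  have pc5 : c ^ 5 = !![0, 1, 0; 0, 1, 1; 1, 0, 1] := by
    rw [pow_succ, pc4, hc]; decide +kernel
  have u0 : IsUnit (aeval c (X ^ 3 + X + 1 : (ZMod 2)[X])) := by
    refine IsUnit.of_mul_eq_one (!![1, 1, 0; 0, 0, 1; 1, 0, 0]) ?_
    simp only [map_add, map_mul, map_pow, aeval_X, map_one, map_ofNat, pc3]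
    (try rw [hc]); decide +kernel
  have u1 : IsUnit (aeval c (X ^ 4 + X + 1 : (ZMod 2)[X])) := by
    refine IsUnit.of_mul_eq_one (!![0, 1, 0; 0, 1, 1; 1, 0, 1]) ?_
    simp only [map_add, map_mul, map_pow, aeval_X, map_one, map_ofNat, pc4]
    (try rw [hc]); decide +kernel
  have u2 : IsUnit (aeval c (X ^ 5 + X ^ 2 + 1 : (ZMod 2)[X])) := by
    refine IsUnit.of_mul_eq_one (!![1, 1, 0; 0, 0, 1; 1, 0, 0]) ?_
    simp only [map_add, map_mul, map_pow, aeval_X, map_one, map_ofNat, pc2, pc5]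
    (try rw [hc]); decide +kernel
  have hz : aeval a (X ^ 3 + X + 1 : (ZMod 2)[X]) = 0 := by
    simp only [map_add, map_mul, map_pow, aeval_X, map_one, map_ofNat, pa3]
    (try rw [ha]); decide +kernel
  refine ⟨a, c, !![1, 0, 0; 0, 1, 0; 0, 0, 1], !![1, 0, 0; 0, 1, 0; 0, 0, 1], by rw [ha, hc]; decide +kernel, by decide +kernel,
    by rw [ha]; decide +kernel, ?_, ?_⟩
  · simp only [map_mul, hz, mul_zero, zero_mul]
  · simpa only [map_mul] using ((u0).mul u1).mul u2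

theorem frame_two_4 : FrameF (((X ^ 3 + X + 1) * (X ^ 4 + X + 1) * (X ^ 5 + X ^ 2 + 1) : (ZMod 2)[X])) (Fin 4) (1 : ZMod 2) := by
  set a : Matrix (Fin 4) (Fin 4) (ZMod 2) := !![0, 0, 0, 1; 1, 0, 0, 1; 0, 1, 0, 0; 0, 0, 1, 0] with ha
  set c : Matrix (Fin 4) (Fin 4) (ZMod 2) := !![1, 1, 0, 0; 0, 0, 1, 0; 0, 0, 0, 1; 1, 0, 0, 0] with hc
  have pa2 : a ^ 2 = !![0, 0, 1, 0; 0, 0, 1, 1; 1, 0, 0, 1; 0, 1, 0, 0] := by
    rw [pow_succ, pow_one, ha]; decide +kernel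
  have pa3 : a ^ 3 = !![0, 1, 0, 0; 0, 1, 1, 0; 0, 0, 1, 1; 1, 0, 0, 1] := by
    rw [pow_succ, pa2, ha]; decide +kernel
  have pa4 : a ^ 4 = !![1, 0, 0, 1; 1, 1, 0, 1; 0, 1, 1, 0; 0, 0, 1, 1] := by
    rw [pow_succ, pa3, ha]; decide +kernel
  have pc2 : c ^ 2 = !![1, 1, 1, 0; 0, 0, 0, 1; 1, 0, 0, 0; 1, 1, 0, 0] := by
    rw [pow_succ, pow_one, hc]; decide +kernel
  have pc3 : c ^ 3 = !![1, 1, 1, 1; 1, 0, 0, 0; 1, 1, 0, 0; 1, 1, 1, 0] := by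
    rw [pow_succ, pc2, hc]; decide +kernel
  have pc4 : c ^ 4 = !![0, 1, 1, 1; 1, 1, 0, 0; 1, 1, 1, 0; 1, 1, 1, 1] := by
    rw [pow_succ, pc3, hc]; decide +kernel
  have pc5 : c ^ 5 = !![1, 0, 1, 1; 1, 1, 1, 0; 1, 1, 1, 1; 0, 1, 1, 1] := by
    rw [pow_succ, pc4, hc]; decide +kernel
  have u0 : IsUnit (aeval c (X ^ 3 + X + 1 : (ZMod 2)[X])) := by
    refine IsUnit.of_mul_eq_one (!![0, 0, 1, 1; 1, 0, 1, 0; 1, 1, 0, 1; 0, 1, 1, 0]) ?_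
    simp only [map_add, map_mul, map_pow, aeval_X, map_one, map_ofNat, pc3]
    (try rw [hc]); decide +kernel
  have u1 : IsUnit (aeval c (X ^ 4 + X + 1 : (ZMod 2)[X])) := by
    refine IsUnit.of_mul_eq_one (!![1, 0, 1, 1; 1, 1, 1, 0; 1, 1, 1, 1; 0, 1, 1, 1]) ?_
    simp only [map_add, map_mul, map_pow, aeval_X, map_one, map_ofNat, pc4]
    (try rw [hc]); decide +kernel
  have u2 : IsUnit (aeval c (X ^ 5 + X ^ 2 + 1 : (ZMod 2)[X])) := by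
    refine IsUnit.of_mul_eq_one (!![1, 0, 1, 0; 0, 1, 1, 1; 1, 0, 1, 1; 0, 1, 0, 1]) ?_
    simp only [map_add, map_mul, map_pow, aeval_X, map_one, map_ofNat, pc2, pc5]
    (try rw [hc]); decide +kernel
  have hz : aeval a (X ^ 4 + X + 1 : (ZMod 2)[X]) = 0 := by
    simp only [map_add, map_mul, map_pow, aeval_X, map_one, map_ofNat, pa4]
    (try rw [ha]); decide +kernel
  refine ⟨a, c, !![1, 0, 0, 0; 0, 1, 0, 0; 0, 0, 1, 0; 0, 0, 0, 1], !![1, 0, 0, 0; 0, 1, 0, 0; 0, 0, 1, 0; 0, 0, 0, 1], by rw [ha, hc]; decide +kernel, by decide +kernel,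
    by rw [ha]; decide +kernel, ?_, ?_⟩
  · simp only [map_mul, hz, mul_zero, zero_mul]
  · simpa only [map_mul] using ((u0).mul u1).mul u2

theorem frame_two_5 : FrameF (((X ^ 3 + X + 1) * (X ^ 4 + X + 1) * (X ^ 5 + X ^ 2 + 1) : (ZMod 2)[X])) (Fin 5) (1 : ZMod 2) := by
  set a : Matrix (Fin 5) (Fin 5) (ZMod 2) := !![0, 0, 0, 0, 1; 1, 0, 0, 0, 0; 0, 1, 0, 0, 1; 0, 0, 1, 0, 0; 0, 0, 0, 1, 0] with ha
  set c : Matrix (Fin 5) (Fin 5) (ZMod 2) := !![0, 1, 0, 0, 0; 1, 0, 1, 0, 0; 0, 0, 0, 1, 0; 0, 0, 0, 0, 1; 1, 0, 0, 0, 0] with hc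
  have pa2 : a ^ 2 = !![0, 0, 0, 1, 0; 0, 0, 0, 0, 1; 1, 0, 0, 1, 0; 0, 1, 0, 0, 1; 0, 0, 1, 0, 0] := by
    rw [pow_succ, pow_one, ha]; decide +kernel
  have pa3 : a ^ 3 = !![0, 0, 1, 0, 0; 0, 0, 0, 1, 0; 0, 0, 1, 0, 1; 1, 0, 0, 1, 0; 0, 1, 0, 0, 1] := by
    rw [pow_succ, pa2, ha]; decide +kernel
  have pa4 : a ^ 4 = !![0, 1, 0, 0, 1; 0, 0, 1, 0, 0; 0, 1, 0, 1, 1; 0, 0, 1, 0, 1; 1, 0, 0, 1, 0] := by
    rw [pow_succ, pa3, ha]; decide +kernel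
  have pa5 : a ^ 5 = !![1, 0, 0, 1, 0; 0, 1, 0, 0, 1; 1, 0, 1, 1, 0; 0, 1, 0, 1, 1; 0, 0, 1, 0, 1] := by
    rw [pow_succ, pa4, ha]; decide +kernel
  have pc2 : c ^ 2 = !![1, 0, 1, 0, 0; 0, 1, 0, 1, 0; 0, 0, 0, 0, 1; 1, 0, 0, 0, 0; 0, 1, 0, 0, 0] := by
    rw [pow_succ, pow_one, hc]; decide +kernel
  have pc3 : c ^ 3 = !![0, 1, 0, 1, 0; 1, 0, 1, 0, 1; 1, 0, 0, 0, 0; 0, 1, 0, 0, 0; 1, 0, 1, 0, 0] := by
    rw [pow_succ, pc2, hc]; decide +kernel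
  have pc4 : c ^ 4 = !![1, 0, 1, 0, 1; 1, 1, 0, 1, 0; 0, 1, 0, 0, 0; 1, 0, 1, 0, 0; 0, 1, 0, 1, 0] := by
    rw [pow_succ, pc3, hc]; decide +kernel
  have pc5 : c ^ 5 = !![1, 1, 0, 1, 0; 1, 1, 1, 0, 1; 1, 0, 1, 0, 0; 0, 1, 0, 1, 0; 1, 0, 1, 0, 1] := by
    rw [pow_succ, pc4, hc]; decide +kernel
  have u0 : IsUnit (aeval c (X ^ 3 + X + 1 : (ZMod 2)[X])) := by
    refine IsUnit.of_mul_eq_one (!![1, 1, 0, 1, 0; 1, 1, 1, 0, 1; 1, 0, 1, 0, 0; 0, 1, 0, 1, 0; 1, 0, 1, 0, 1]) ?_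
    simp only [map_add, map_mul, map_pow, aeval_X, map_one, map_ofNat, pc3]
    (try rw [hc]); decide +kernel
  have u1 : IsUnit (aeval c (X ^ 4 + X + 1 : (ZMod 2)[X])) := by
    refine IsUnit.of_mul_eq_one (!![1, 1, 0, 0, 1; 0, 1, 1, 0, 0; 0, 1, 1, 1, 1; 0, 0, 1, 1, 1; 1, 0, 0, 1, 1]) ?_
    simp only [map_add, map_mul, map_pow, aeval_X, map_one, map_ofNat, pc4]
    (try rw [hc]); decide +kernel
  have u2 : IsUnit (aeval c (X ^ 5 + X ^ 2 + 1 : (ZMod 2)[X])) := by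
    refine IsUnit.of_mul_eq_one (!![1, 1, 1, 0, 0; 1, 1, 1, 1, 0; 0, 0, 0, 1, 1; 1, 0, 0, 0, 1; 1, 1, 0, 0, 0]) ?_
    simp only [map_add, map_mul, map_pow, aeval_X, map_one, map_ofNat, pc2, pc5]
    (try rw [hc]); decide +kernel
  have hz : aeval a (X ^ 5 + X ^ 2 + 1 : (ZMod 2)[X]) = 0 := by
    simp only [map_add, map_mul, map_pow, aeval_X, map_one, map_ofNat, pa2, pa5]
    (try rw [ha]); decide +kernel
  refine ⟨a, c, !![1, 0, 0, 0, 0; 0, 1, 0, 0, 0; 0, 0, 1, 0, 0; 0, 0, 0, 1, 0; 0, 0, 0, 0, 1], !![1, 0, 0, 0, 0; 0, 1, 0, 0, 0; 0, 0, 1, 0, 0; 0, 0, 0, 1, 0; 0, 0, 0, 0, 1], by rw [ha, hc]; decide +kernel, by decide +kernel,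
    by rw [ha]; decide +kernel, ?_, ?_⟩
  · simp only [map_mul, hz, mul_zero, zero_mul]
  · simpa only [map_mul] using ((u0).mul u1).mul u2

theorem frame_three_2 : FrameF (((X ^ 2 + X + 2) * (X ^ 3 + 2 * X + 1) : (ZMod 3)[X])) (Fin 2) (1 : ZMod 3) := by
  set a : Matrix (Fin 2) (Fin 2) (ZMod 3) := !![0, 1; 1, 2] with ha
  set c : Matrix (Fin 2) (Fin 2) (ZMod 3) := !![1, 1; 1, 0] with hc
  have pa2 : a ^ 2 = !![1, 2; 2, 2] := by
    rw [pow_succ, pow_one, ha]; decide +kernel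
  have pc2 : c ^ 2 = !![2, 1; 1, 1] := by
    rw [pow_succ, pow_one, hc]; decide +kernel
  have pc3 : c ^ 3 = !![0, 2; 2, 1] := by
    rw [pow_succ, pc2, hc]; decide +kernel
  have u0 : IsUnit (aeval c (X ^ 2 + X + 2 : (ZMod 3)[X])) := by
    refine IsUnit.of_mul_eq_one (!![0, 2; 2, 1]) ?_
    simp only [map_add, map_mul, map_pow, aeval_X, map_one, map_ofNat, pc2]
    (try rw [hc]); decide +kernel
  have u1 : IsUnit (aeval c (X ^ 3 + 2 * X + 1 : (ZMod 3)[X])) := by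
    refine IsUnit.of_mul_eq_one (!![1, 1; 1, 0]) ?_
    simp only [map_add, map_mul, map_pow, aeval_X, map_one, map_ofNat, pc3]
    (try rw [hc]); decide +kernel
  have hz : aeval a (X ^ 2 + X + 2 : (ZMod 3)[X]) = 0 := by
    simp only [map_add, map_mul, map_pow, aeval_X, map_one, map_ofNat, pa2]
    (try rw [ha]); decide +kernel
  refine ⟨a, c, !![1, 0; 0, 1], !![1, 0; 0, 1], by rw [ha, hc]; decide +kernel, by decide +kernel,
    by rw [ha]; decide +kernel, ?_, ?_⟩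
  · simp only [map_mul, hz, mul_zero, zero_mul]
  · simpa only [map_mul] using (u0).mul u1

theorem frame_three_3 : FrameF (((X ^ 2 + X + 2) * (X ^ 3 + 2 * X + 1) : (ZMod 3)[X])) (Fin 3) (1 : ZMod 3) := by
  set a : Matrix (Fin 3) (Fin 3) (ZMod 3) := !![0, 0, 2; 1, 0, 1; 0, 1, 0] with ha
  set c : Matrix (Fin 3) (Fin 3) (ZMod 3) := !![1, 1, 0; 0, 0, 1; 2, 0, 0] with hc
  have pa2 : a ^ 2 = !![0, 2, 0; 0, 1, 2; 1, 0, 1] := by
    rw [pow_succ, pow_one, ha]; decide +kernel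
  have pa3 : a ^ 3 = !![2, 0, 2; 1, 2, 1; 0, 1, 2] := by
    rw [pow_succ, pa2, ha]; decide +kernel
  have pc2 : c ^ 2 = !![1, 1, 1; 2, 0, 0; 2, 2, 0] := by
    rw [pow_succ, pow_one, hc]; decide +kernel
  have pc3 : c ^ 3 = !![0, 1, 1; 2, 2, 0; 2, 2, 2] := by
    rw [pow_succ, pc2, hc]; decide +kernel
  have u0 : IsUnit (aeval c (X ^ 2 + X + 2 : (ZMod 3)[X])) := by
    refine IsUnit.of_mul_eq_one (!![2, 1, 0; 0, 1, 1; 2, 0, 1]) ?_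
    simp only [map_add, map_mul, map_pow, aeval_X, map_one, map_ofNat, pc2]
    (try rw [hc]); decide +kernel
  have u1 : IsUnit (aeval c (X ^ 3 + 2 * X + 1 : (ZMod 3)[X])) := by
    refine IsUnit.of_mul_eq_one (!![2, 2, 0; 0, 0, 2; 1, 0, 0]) ?_
    simp only [map_add, map_mul, map_pow, aeval_X, map_one, map_ofNat, pc3]
    (try rw [hc]); decide +kernel
  have hz : aeval a (X ^ 3 + 2 * X + 1 : (ZMod 3)[X]) = 0 := by
    simp only [map_add, map_mul, map_pow, aeval_X, map_one, map_ofNat, pa3]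
    (try rw [ha]); decide +kernel
  refine ⟨a, c, !![1, 0, 0; 0, 1, 0; 0, 0, 1], !![1, 0, 0; 0, 1, 0; 0, 0, 1], by rw [ha, hc]; decide +kernel, by decide +kernel,
    by rw [ha]; decide +kernel, ?_, ?_⟩
  · simp only [map_mul, hz, mul_zero, zero_mul]
  · simpa only [map_mul] using (u0).mul u1

theorem frame_threeNeg_4 : FrameF (((X ^ 4 + X ^ 2 + 2) * (X ^ 6 + 2 * X ^ 2 + 1) : (ZMod 3)[X])) (Fin 4) (-1 : ZMod 3) := by
  set a : Matrix (Fin 4) (Fin 4) (ZMod 3) := !![0, 0, 0, 1; 1, 0, 0, 0; 0, 1, 0, 2; 0, 0, 1, 0] with ha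
  set c : Matrix (Fin 4) (Fin 4) (ZMod 3) := !![0, 1, 0, 0; 1, 0, 1, 0; 0, 0, 0, 1; 1, 0, 0, 0] with hc
  have pa2 : a ^ 2 = !![0, 0, 1, 0; 0, 0, 0, 1; 1, 0, 2, 0; 0, 1, 0, 2] := by
    rw [pow_succ, pow_one, ha]; decide +kernel
  have pa3 : a ^ 3 = !![0, 1, 0, 2; 0, 0, 1, 0; 0, 2, 0, 2; 1, 0, 2, 0] := by
    rw [pow_succ, pa2, ha]; decide +kernel
  have pa4 : a ^ 4 = !![1, 0, 2, 0; 0, 1, 0, 2; 2, 0, 2, 0; 0, 2, 0, 2] := by
    rw [pow_succ, pa3, ha]; decide +kernel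
  have pc2 : c ^ 2 = !![1, 0, 1, 0; 0, 1, 0, 1; 1, 0, 0, 0; 0, 1, 0, 0] := by
    rw [pow_succ, pow_one, hc]; decide +kernel
  have pc3 : c ^ 3 = !![0, 1, 0, 1; 2, 0, 1, 0; 0, 1, 0, 0; 1, 0, 1, 0] := by
    rw [pow_succ, pc2, hc]; decide +kernel
  have pc4 : c ^ 4 = !![2, 0, 1, 0; 0, 2, 0, 1; 1, 0, 1, 0; 0, 1, 0, 1] := by
    rw [pow_succ, pc3, hc]; decide +kernel
  have pc5 : c ^ 5 = !![0, 2, 0, 1; 0, 0, 2, 0; 0, 1, 0, 1; 2, 0, 1, 0] := by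
    rw [pow_succ, pc4, hc]; decide +kernel
  have pc6 : c ^ 6 = !![0, 0, 2, 0; 0, 0, 0, 2; 2, 0, 1, 0; 0, 2, 0, 1] := by
    rw [pow_succ, pc5, hc]; decide +kernel
  have u0 : IsUnit (aeval c (X ^ 4 + X ^ 2 + 2 : (ZMod 3)[X])) := by
    refine IsUnit.of_mul_eq_one (!![0, 0, 2, 0; 0, 0, 0, 2; 2, 0, 1, 0; 0, 2, 0, 1]) ?_
    simp only [map_add, map_mul, map_pow, aeval_X, map_one, map_ofNat, pc2, pc4]
    (try rw [hc]); decide +kernel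
  have u1 : IsUnit (aeval c (X ^ 6 + 2 * X ^ 2 + 1 : (ZMod 3)[X])) := by
    refine IsUnit.of_mul_eq_one (!![1, 0, 1, 0; 0, 1, 0, 1; 1, 0, 0, 0; 0, 1, 0, 0]) ?_
    simp only [map_add, map_mul, map_pow, aeval_X, map_one, map_ofNat, pc2, pc6]
    (try rw [hc]); decide +kernel
  have hz : aeval a (X ^ 4 + X ^ 2 + 2 : (ZMod 3)[X]) = 0 := by
    simp only [map_add, map_mul, map_pow, aeval_X, map_one, map_ofNat, pa2, pa4]
    (try rw [ha]); decide +kernel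
  refine ⟨a, c, !![1, 0, 0, 0; 0, 2, 0, 0; 0, 0, 1, 0; 0, 0, 0, 2], !![1, 0, 0, 0; 0, 2, 0, 0; 0, 0, 1, 0; 0, 0, 0, 2], by rw [ha, hc]; decide +kernel, by decide +kernel,
    by rw [ha]; decide +kernel, ?_, ?_⟩
  · simp only [map_mul, hz, mul_zero, zero_mul]
  · simpa only [map_mul] using (u0).mul u1

theorem frame_threeNeg_6 : FrameF (((X ^ 4 + X ^ 2 + 2) * (X ^ 6 + 2 * X ^ 2 + 1) : (ZMod 3)[X])) (Fin 6) (-1 : ZMod 3) := by
  set a : Matrix (Fin 6) (Fin 6) (ZMod 3) := !![0, 0, 0, 0, 0, 2; 1, 0, 0, 0, 0, 0; 0, 1, 0, 0, 0, 1; 0, 0, 1, 0, 0, 0; 0, 0, 0, 1, 0, 0; 0, 0, 0, 0, 1, 0] with ha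
  set c : Matrix (Fin 6) (Fin 6) (ZMod 3) := !![0, 1, 0, 0, 0, 0; 1, 0, 1, 0, 0, 0; 0, 0, 0, 1, 0, 0; 0, 0, 0, 0, 1, 0; 0, 0, 0, 0, 0, 1; 2, 0, 0, 0, 0, 0] with hc
  have pa2 : a ^ 2 = !![0, 0, 0, 0, 2, 0; 0, 0, 0, 0, 0, 2; 1, 0, 0, 0, 1, 0; 0, 1, 0, 0, 0, 1; 0, 0, 1, 0, 0, 0; 0, 0, 0, 1, 0, 0] := by
    rw [pow_succ, pow_one, ha]; decide +kernel
  have pa3 : a ^ 3 = !![0, 0, 0, 2, 0, 0; 0, 0, 0, 0, 2, 0; 0, 0, 0, 1, 0, 2; 1, 0, 0, 0, 1, 0; 0, 1, 0, 0, 0, 1; 0, 0, 1, 0, 0, 0] := by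
    rw [pow_succ, pa2, ha]; decide +kernel
  have pa4 : a ^ 4 = !![0, 0, 2, 0, 0, 0; 0, 0, 0, 2, 0, 0; 0, 0, 1, 0, 2, 0; 0, 0, 0, 1, 0, 2; 1, 0, 0, 0, 1, 0; 0, 1, 0, 0, 0, 1] := by
    rw [pow_succ, pa3, ha]; decide +kernel
  have pa5 : a ^ 5 = !![0, 2, 0, 0, 0, 2; 0, 0, 2, 0, 0, 0; 0, 1, 0, 2, 0, 1; 0, 0, 1, 0, 2, 0; 0, 0, 0, 1, 0, 2; 1, 0, 0, 0, 1, 0] := by
    rw [pow_succ, pa4, ha]; decide +kernel
  have pa6 : a ^ 6 = !![2, 0, 0, 0, 2, 0; 0, 2, 0, 0, 0, 2; 1, 0, 2, 0, 1, 0; 0, 1, 0, 2, 0, 1; 0, 0, 1, 0, 2, 0; 0, 0, 0, 1, 0, 2] := by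
    rw [pow_succ, pa5, ha]; decide +kernel
  have pc2 : c ^ 2 = !![1, 0, 1, 0, 0, 0; 0, 1, 0, 1, 0, 0; 0, 0, 0, 0, 1, 0; 0, 0, 0, 0, 0, 1; 2, 0, 0, 0, 0, 0; 0, 2, 0, 0, 0, 0] := by
    rw [pow_succ, pow_one, hc]; decide +kernel
  have pc3 : c ^ 3 = !![0, 1, 0, 1, 0, 0; 1, 0, 1, 0, 1, 0; 0, 0, 0, 0, 0, 1; 2, 0, 0, 0, 0, 0; 0, 2, 0, 0, 0, 0; 2, 0, 2, 0, 0, 0] := by
    rw [pow_succ, pc2, hc]; decide +kernel
  have pc4 : c ^ 4 = !![1, 0, 1, 0, 1, 0; 0, 1, 0, 1, 0, 1; 2, 0, 0, 0, 0, 0; 0, 2, 0, 0, 0, 0; 2, 0, 2, 0, 0, 0; 0, 2, 0, 2, 0, 0] := by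
    rw [pow_succ, pc3, hc]; decide +kernel
  have pc5 : c ^ 5 = !![0, 1, 0, 1, 0, 1; 0, 0, 1, 0, 1, 0; 0, 2, 0, 0, 0, 0; 2, 0, 2, 0, 0, 0; 0, 2, 0, 2, 0, 0; 2, 0, 2, 0, 2, 0] := by
    rw [pow_succ, pc4, hc]; decide +kernel
  have pc6 : c ^ 6 = !![0, 0, 1, 0, 1, 0; 0, 0, 0, 1, 0, 1; 2, 0, 2, 0, 0, 0; 0, 2, 0, 2, 0, 0; 2, 0, 2, 0, 2, 0; 0, 2, 0, 2, 0, 2] := by
    rw [pow_succ, pc5, hc]; decide +kernel
  have u0 : IsUnit (aeval c (X ^ 4 + X ^ 2 + 2 : (ZMod 3)[X])) := by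
    refine IsUnit.of_mul_eq_one (!![2, 0, 1, 0, 0, 0; 0, 2, 0, 1, 0, 0; 0, 0, 1, 0, 1, 0; 0, 0, 0, 1, 0, 1; 2, 0, 0, 0, 1, 0; 0, 2, 0, 0, 0, 1]) ?_
    simp only [map_add, map_mul, map_pow, aeval_X, map_one, map_ofNat, pc2, pc4]
    (try rw [hc]); decide +kernel
  have u1 : IsUnit (aeval c (X ^ 6 + 2 * X ^ 2 + 1 : (ZMod 3)[X])) := by
    refine IsUnit.of_mul_eq_one (!![2, 0, 2, 0, 0, 0; 0, 2, 0, 2, 0, 0; 0, 0, 0, 0, 2, 0; 0, 0, 0, 0, 0, 2; 1, 0, 0, 0, 0, 0; 0, 1, 0, 0, 0, 0]) ?_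
    simp only [map_add, map_mul, map_pow, aeval_X, map_one, map_ofNat, pc2, pc6]
    (try rw [hc]); decide +kernel
  have hz : aeval a (X ^ 6 + 2 * X ^ 2 + 1 : (ZMod 3)[X]) = 0 := by
    simp only [map_add, map_mul, map_pow, aeval_X, map_one, map_ofNat, pa2, pa6]
    (try rw [ha]); decide +kernel
  refine ⟨a, c, !![1, 0, 0, 0, 0, 0; 0, 2, 0, 0, 0, 0; 0, 0, 1, 0, 0, 0; 0, 0, 0, 2, 0, 0; 0, 0, 0, 0, 1, 0; 0, 0, 0, 0, 0, 2], !![1, 0, 0, 0, 0, 0; 0, 2, 0, 0, 0, 0; 0, 0, 1, 0, 0, 0; 0, 0, 0, 2, 0, 0; 0, 0, 0, 0, 1, 0; 0, 0, 0, 0, 0, 2], by rw [ha, hc]; decide +kernel, by decide +kernel,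
    by rw [ha]; decide +kernel, ?_, ?_⟩
  · simp only [map_mul, hz, mul_zero, zero_mul]
  · simpa only [map_mul] using (u0).mul u1

theorem frame_two [Fintype F] (h : Fintype.card F = 2) (n : ℕ) (hn : 3 ≤ n) :
    Frame F (Fin n) 1 := by
  have : CharP F 2 := charP_of_card_eq_prime h
  suffices H : ∀ n, 3 ≤ n → FrameF ((X ^ 3 + X + 1) * (X ^ 4 + X + 1) * (X ^ 5 + X ^ 2 + 1) :
      (ZMod 2)[X]) (Fin n) (1 : ZMod 2) by
    simpa using ((H n hn).map (ZMod.castHom dvd_rfl F)).frame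
  intro n
  induction n using Nat.strong_induction_on with
  | _ n ih =>
    intro hn
    rcases (by omega : n = 3 ∨ n = 4 ∨ n = 5 ∨ 6 ≤ n) with rfl | rfl | rfl | h6
    · exact frame_two_3
    · exact frame_two_4
    · exact frame_two_5
    · exact (frame_two_3.sum (ih (n - 3) (by omega) (by omega))).reindex
        (finSumFinEquiv.trans (finCongr (by omega)))

theorem frame_three [Fintype F] (h : Fintype.card F = 3) (n : ℕ) (hn : 2 ≤ n) :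
    Frame F (Fin n) 1 := by
  have : Fact (Nat.Prime 3) := ⟨Nat.prime_three⟩
  have : CharP F 3 := charP_of_card_eq_prime h
  suffices H : ∀ n, 2 ≤ n → FrameF ((X ^ 2 + X + 2) * (X ^ 3 + 2 * X + 1) : (ZMod 3)[X]) (Fin n)
      (1 : ZMod 3) by
    simpa using ((H n hn).map (ZMod.castHom dvd_rfl F)).frame
  intro n
  induction n using Nat.strong_induction_on with
  | _ n ih =>
    intro hn
    rcases (by omega : n = 2 ∨ n = 3 ∨ 4 ≤ n) with rfl | rfl | h6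
    · exact frame_three_2
    · exact frame_three_3
    · exact (frame_three_2.sum (ih (n - 2) (by omega) (by omega))).reindex
        (finSumFinEquiv.trans (finCongr (by omega)))

theorem frame_three_neg [Fintype F] (h : Fintype.card F = 3) (n : ℕ) (hn : 4 ≤ n) (he : Even n) :
    Frame F (Fin n) (-1) := by
  have : Fact (Nat.Prime 3) := ⟨Nat.prime_three⟩
  have : CharP F 3 := charP_of_card_eq_prime h
  suffices H : ∀ n, 4 ≤ n → Even n → FrameF ((X ^ 4 + X ^ 2 + 2) * (X ^ 6 + 2 * X ^ 2 + 1) :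
      (ZMod 3)[X]) (Fin n) (-1 : ZMod 3) by
    simpa using ((H n hn he).map (ZMod.castHom dvd_rfl F)).frame
  intro n
  induction n using Nat.strong_induction_on with
  | _ n ih =>
    intro hn he
    obtain ⟨j, rfl⟩ := he
    rcases (by omega : j = 2 ∨ j = 3 ∨ 4 ≤ j) with rfl | rfl | h6
    · exact frame_threeNeg_4
    · exact frame_threeNeg_6
    · exact (frame_threeNeg_4.sum (ih (j + j - 4) (by omega) (by omega) ⟨j - 2, by omega⟩)).reindex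
        (finSumFinEquiv.trans (finCongr (by omega)))

end CfsgLib.SpOre
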